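import Cfsg.Agent.Lib.Sporadic.HeCent.Check
import Cfsg.Agent.Lib.Sporadic.HePerm

/-!
# The centraliser of an involution of the Held group has order at most 21504
-/

set_option autoImplicit false
set_option maxRecDepth 10000

open Cfsg.Spor

namespace CfsgLib.Sporadic.HeCent

open CosetCert CosetCert.HeP OutCert
open CosetCert.HeData (table)

/-- The involution. -/
noncomputable def zE : He := table.el coding.gen 3

theorem img_el {r : ℕ} (hr : r < table.nl + table.slp.length) (u : Fin table.N) :
    ((hom (table.el coding.gen r) u : Fin table.N) : ℕ) = table.img r u :=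
  hom_acts.el_img HeData.table_slp r hr u

theorem inj : Function.Injective hom := card_eq.2

theorem N_eq : table.N = 2058 := rfl

/-- The point with a given number. -/
noncomputable def point (n : ℕ) (h : n < 2058) : Fin table.N := ⟨n, N_eq ▸ h⟩

/-- The stabiliser of a point. -/
noncomputable def stab (b : Fin table.N) : Subgroup He :=
  (MulAction.stabilizer (Equiv.Perm (Fin table.N)) b).comap hom

theorem mem_stab {b : Fin table.N} {g : He} : g ∈ stab b ↔ hom g b = b := Iff.rfl

theorem zE_img (u : Fin table.N) : ((hom zE u : Fin table.N) : ℕ) = table.img 3 u :=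
  img_el (by decide +kernel) u

theorem card_split (K : Subgroup He) (b : Fin table.N) :
    Nat.card K = (MulAction.orbit (K.map hom) b).ncard * Nat.card (K ⊓ stab b : Subgroup He) := by
  rw [Nat.card_congr (K.equivMapOfInjective hom inj).toEquiv,
    Nat.card_congr ((K ⊓ stab b).equivMapOfInjective hom inj).toEquiv,
    ← (MulAction.stabilizer (K.map hom) b).index_mul_card, MulAction.index_stabilizer]
  congr 1
  refine Nat.card_congr
    { toFun := fun g => ⟨g.1.1, by
        obtain ⟨k, hk, e⟩ := g.1.2
        refine ⟨k, ⟨hk, ?_⟩, e⟩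
        show hom k b = b
        rw [e]; exact g.2⟩
      invFun := fun g => ⟨⟨g.1, Subgroup.map_mono inf_le_left g.2⟩, by
        obtain ⟨k, hk, e⟩ := g.2
        show (g : Equiv.Perm (Fin table.N)) b = b
        rw [← e]; exact hk.2⟩
      left_inv := fun _ => rfl
      right_inv := fun _ => rfl }

theorem card_grpH : Nat.card grpH = 1958400 := by
  haveI := CosetCert.HeP.finite
  have := grpH.card_mul_index
  rw [index_H_eq, card_eq.1] at this
  omega

theorem stab_pt : stab pt = grpH := by
  ext g
  exact ⟨fun h => mem_grpH_of_fix h, fun h => hom_fix g h⟩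

/-- The stabiliser of `0` and `1`. -/
noncomputable def st01 : Subgroup He := stab pt ⊓ stab (point 1 (by norm_num))

theorem card_st01 : Nat.card st01 = 1440 := by
  have h := card_split (stab pt) (point 1 (by norm_num))
  obtain ⟨O, hO, -, hc⟩ := suborbit (b := 1) (by decide +kernel) HeData.search3_ok
  rw [stab_pt] at h
  rw [show (MulAction.orbit (grpH.map hom) (point 1 (by norm_num))) = (O : Set _) from hO.symm,
    Set.ncard_coe_finset, hc, card_grpH, show HeData.search3.length = 1359 by decide +kernel] at h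
  rw [st01, stab_pt]
  omega

theorem rows01_lt {r : ℕ} (hr : r ∈ rows01) : r < table.nl + table.slp.length := by
  have := List.all_eq_true.1 rows01_ok r hr
  simp only [Bool.and_eq_true, Nat.blt_eq] at this
  exact this.1

theorem rows01_mem {r : ℕ} (hr : r ∈ rows01) : table.el coding.gen r ∈ st01 := by
  have := List.all_eq_true.1 rows01_ok r hr
  simp only [Bool.and_eq_true, Nat.blt_eq, Nat.beq_eq] at this
  refine ⟨Fin.ext ?_, Fin.ext ?_⟩
  · exact (img_el this.1 _).trans this.2.1
  · exact (img_el this.1 _).trans this.2.2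

theorem map_st01 :
    st01.map hom = Subgroup.closure (table.rowSet hom coding.gen rows01) := by
  have hle : Subgroup.closure (table.rowSet hom coding.gen rows01) ≤ st01.map hom := by
    rw [Subgroup.closure_le]
    rintro _ ⟨r, hr, rfl⟩
    exact ⟨_, rows01_mem hr, rfl⟩
  refine (Subgroup.eq_of_le_of_card_ge hle ?_).symm
  rw [← Nat.card_congr (st01.equivMapOfInjective hom inj).toEquiv, card_st01, ← chain01_ok.2.2]
  refine PTab.chainProd_le_card hom_acts HeData.table_slp chain01 [0, 1] _ chain01_ok.1 ?_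
  intro e he r hr _
  refine Subgroup.subset_closure ⟨r, ?_, rfl⟩
  exact List.contains_iff_mem.1
    (List.all_eq_true.1 (List.all_eq_true.1 chain01_ok.2.1 e he) r hr)

theorem orbit46 : MulAction.orbit (st01.map hom) (point 46 (by norm_num)) =
      ↑(table.maskSet (table.orbitMask rows01 46 orb46)) ∧
    (MulAction.orbit (st01.map hom) (point 46 (by norm_num))).ncard = 90 := by
  obtain ⟨h1, h2⟩ := PTab.orbit_eq hom_acts HeData.table_slp (fun r hr => rows01_lt hr)
    (point 46 (by norm_num)) orb46 orb46_ok.1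
  rw [map_st01, h1, Set.ncard_coe_finset]
  refine ⟨rfl, ?_⟩
  rw [h2, orb46_ok.2]

theorem card_st012 : Nat.card (st01 ⊓ stab (point 46 (by norm_num)) : Subgroup He) = 16 := by
  have h := card_split st01 (point 46 (by norm_num))
  rw [card_st01, orbit46.2] at h
  omega

/-- The centraliser. -/
noncomputable abbrev Cz : Subgroup He := Subgroup.centralizer ({zE} : Set He)

theorem mem_fixZ {u : Fin table.N} (hu : hom zE u = u) : (u : ℕ) ∈ fixZ := by
  have h := OutCert.allF_iff.1 fix_ok.1 u (N_eq ▸ u.2)
  simp only [Bool.or_eq_true, Bool.not_eq_true'] at h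
  rcases h with h | h
  · rw [← zE_img, hu] at h
    simp at h
  · exact List.contains_iff_mem.1 h

theorem fix_of_cent {K : Subgroup He} (hK : K ≤ Cz) {b u : Fin table.N} (hb : hom zE b = b)
    (hu : u ∈ MulAction.orbit (K.map hom) b) : hom zE u = u := by
  obtain ⟨⟨g, k, hk, rfl⟩, rfl⟩ := hu
  have h : k * zE = zE * k := Subgroup.mem_centralizer_singleton_iff.1 (hK hk)
  show hom zE (hom k b) = hom k b
  rw [← Equiv.Perm.mul_apply, ← map_mul, ← h, map_mul, Equiv.Perm.mul_apply, hb]

theorem ncard_le_list {S : Set (Fin table.N)} (L : List ℕ) (h : ∀ u ∈ S, (u : ℕ) ∈ L) :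
    S.ncard ≤ L.length := by
  rw [← Set.ncard_image_of_injective S Fin.val_injective]
  refine (Set.ncard_le_ncard (t := (L.toFinset : Set ℕ)) ?_ L.toFinset.finite_toSet).trans ?_
  · rintro _ ⟨u, hu, rfl⟩
    exact List.mem_toFinset.2 (h u hu)
  · rw [Set.ncard_coe_finset]; exact List.toFinset_card_le L

theorem zE_fix (n : ℕ) (h : n < 2058) (he : table.img 3 n = n) : hom zE (point n h) = point n h :=
  Fin.ext ((zE_img _).trans he)

theorem card_Cz_le : Nat.card Cz ≤ 21504 := by
  have e1 := card_split Cz pt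
  have e2 := card_split (Cz ⊓ stab pt) (point 1 (by norm_num))
  have e3 := card_split (Cz ⊓ stab pt ⊓ stab (point 1 (by norm_num))) (point 46 (by norm_num))
  have o1 : (MulAction.orbit (Cz.map hom) pt).ncard ≤ 42 := by
    rw [← fix_ok.2.1]
    exact ncard_le_list _ fun u hu =>
      mem_fixZ (fix_of_cent le_rfl (Fin.ext ((zE_img _).trans base_ok.1)) hu)
  have o2 : (MulAction.orbit ((Cz ⊓ stab pt).map hom) (point 1 (by norm_num))).ncard ≤ 16 := by
    refine le_trans (ncard_le_list (fixZ.filter fun x =>
      Nat.testBit (table.orbitMask HeData.rowsH 1 HeData.search3) x) fun u hu => ?_) fix4_ok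
    refine List.mem_filter.2 ⟨mem_fixZ (fix_of_cent inf_le_left (zE_fix 1 _ base_ok.2.1) hu), ?_⟩
    obtain ⟨O, hO, hOe, -⟩ := suborbit (b := 1) (by decide +kernel) HeData.search3_ok
    have hu' : u ∈ MulAction.orbit (grpH.map hom) (point 1 (by norm_num)) := by
      obtain ⟨⟨g, k, hk, rfl⟩, rfl⟩ := hu
      exact ⟨⟨_, k, stab_pt ▸ hk.2, rfl⟩, rfl⟩
    have : u ∈ (O : Set (Fin table.N)) := hO ▸ hu'
    rw [Finset.mem_coe, hOe, PTab.mem_maskSet] at this
    exact this
  have o3 : (MulAction.orbit ((Cz ⊓ stab pt ⊓ stab (point 1 (by norm_num))).map hom)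
      (point 46 (by norm_num))).ncard ≤ 2 := by
    refine le_trans (ncard_le_list (fixZ.filter fun x =>
      Nat.testBit (table.orbitMask rows01 46 orb46) x) fun u hu => ?_) fix46_ok
    refine List.mem_filter.2 ⟨mem_fixZ (fix_of_cent (inf_le_left.trans inf_le_left)
      (zE_fix 46 _ base_ok.2.2) hu), ?_⟩
    have hu' : u ∈ MulAction.orbit (st01.map hom) (point 46 (by norm_num)) := by
      obtain ⟨⟨g, k, hk, rfl⟩, rfl⟩ := hu
      exact ⟨⟨_, k, ⟨hk.1.2, hk.2⟩, rfl⟩, rfl⟩
    rw [orbit46.1, Finset.mem_coe, PTab.mem_maskSet] at hu'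
    exact hu'
  have o4 : Nat.card (Cz ⊓ stab pt ⊓ stab (point 1 (by norm_num)) ⊓ stab (point 46 (by norm_num)) :
      Subgroup He) ≤ 16 := by
    haveI := CosetCert.HeP.finite
    refine le_trans ?_ card_st012.le
    exact Subgroup.card_le_of_le (le_inf (le_inf (inf_le_left.trans (inf_le_left.trans inf_le_right))
      (inf_le_left.trans inf_le_right)) inf_le_right)
  have h3 : Nat.card (Cz ⊓ stab pt ⊓ stab (point 1 (by norm_num)) : Subgroup He) ≤ 2 * 16 :=
    e3.le.trans (Nat.mul_le_mul o3 o4)
  have h2 : Nat.card (Cz ⊓ stab pt : Subgroup He) ≤ 16 * (2 * 16) :=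
    e2.le.trans (Nat.mul_le_mul o2 h3)
  exact e1.le.trans ((Nat.mul_le_mul o1 h2).trans (by norm_num))

end CfsgLib.Sporadic.HeCent
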