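import Cfsg.Agent.Lib.Sporadic.HeCent.Data
import Cfsg.Agent.Lib.Sporadic.HePresented
import Cfsg.Agent.Lib.Sporadic.OutCert.Slp

/-!
# Kernel checks for the centraliser of an involution of the Held group
-/

set_option maxRecDepth 100000

namespace CfsgLib.Sporadic.HeCent

open CosetCert CosetCert.HeData OutCert

/-- Rows commute with the involution. -/
noncomputable def commK : Bool :=
  genRow.all fun r => allF (fun x => Nat.beq (table.img r (table.img 3 x)) (table.img 3 (table.img r x))) 2058

/-- One generator carries one partial map to its image. -/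
noncomputable def mapK (k i : ℕ) : Bool :=
  let r := genRow.getD k 0
  let j := lk 4 (permTab.getD k (0, 0)).1 i
  allF (fun x => Nat.beq (lk 12 (maps.getD i 0) x) 4095 ||
    (Nat.blt (lk 12 (maps.getD i 0) x) 2058 &&
      Nat.beq (lk 12 (maps.getD j 0) (table.img r x)) (table.img r (lk 12 (maps.getD i 0) x)))) 2058

theorem comm_ok : commK = true := by decide +kernel

theorem map_ok0 : allF (mapK 0) 16 = true := by decide +kernel
theorem map_ok1 : allF (mapK 1) 16 = true := by decide +kernel
theorem map_ok2 : allF (mapK 2) 16 = true := by decide +kernel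

theorem wit_ok : (allF (fun i => allF (fun j => Nat.beq i j ||
    (Nat.blt (wit.getD (Nat.add (Nat.mul 16 i) j) 0) 2058 &&
      (Nat.blt (lk 12 (maps.getD i 0) (wit.getD (Nat.add (Nat.mul 16 i) j) 0)) 2058 &&
        !(Nat.beq (lk 12 (maps.getD j 0) (wit.getD (Nat.add (Nat.mul 16 i) j) 0))
          (lk 12 (maps.getD i 0) (wit.getD (Nat.add (Nat.mul 16 i) j) 0)))))) 16) 16) = true := by
  decide +kernel

theorem fix_ok : allF (fun x => !(Nat.beq (table.img 3 x) x) || fixZ.contains x) 2058 = true ∧
    fixZ.length = 42 ∧ fixZ.all (fun x => Nat.blt x 2058) = true := by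
  decide +kernel

theorem fix4_ok : (fixZ.filter fun x =>
    Nat.testBit (table.orbitMask rowsH 1 search3) x).length ≤ 16 := by decide +kernel

theorem fix46_ok : (fixZ.filter fun x =>
    Nat.testBit (table.orbitMask rows01 46 orb46) x).length ≤ 2 := by decide +kernel

theorem base_ok : table.img 3 0 = 0 ∧ table.img 3 1 = 1 ∧ table.img 3 46 = 46 := by decide +kernel

theorem rows01_ok : rows01.all (fun r => Nat.blt r (table.nl + table.slp.length) &&
    (Nat.beq (table.img r 0) 0 && Nat.beq (table.img r 1) 1)) = true := by decide +kernel

theorem chain01_ok : table.chainOK chain01 [0, 1] = true ∧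
    chain01.all (fun e => e.2.1.all fun r => rows01.contains r) = true ∧
    PTab.chainProd chain01 = 1440 := by decide +kernel

theorem orb46_ok : table.orbitOK rows01 46 orb46 = true ∧ orb46.length = 89 := by decide +kernel

theorem nontrivial : table.img 3 18 = 34 := by decide +kernel

theorem perm_valid : (permTab.all fun g => validK 4 16 g.1 g.2) = true ∧ permTab.length = 3 ∧
    slpCheck 4 16 (permTab.map Prod.fst) permSlp = true ∧
    (permLevels.all fun L => L.2.1.all fun i => Nat.blt i (3 + permSlp.length)) = true := by
  decide +kernel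

/-- The levels with the elements filled in. -/
def permLv : List Level :=
  permLevels.map fun L => ⟨L.1, L.2.1.map (slpVal (permTab.map Prod.fst) permSlp), L.2.2⟩

theorem perm_levels : levelsK 4 16 permLv = true ∧
    (permLv.map fun L => L.orb.length + 1).prod = 21504 := by decide +kernel

end CfsgLib.Sporadic.HeCent
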