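import Mathlib
import Cfsg.Agent.Lib.Sporadic.HeCent.Data

/-!
# The centraliser of a transvection of `SL(5, 2)` on the sixteen vectors outside its axis
-/

set_option autoImplicit false
set_option maxRecDepth 10000

open Matrix

namespace CfsgLib.Sporadic.HeCent

/-- Special linear group of degree five over the field with two elements. -/
abbrev SL5 : Type := Matrix.SpecialLinearGroup (Fin 5) (ZMod 2)

/-- A bit as an element of the field. -/
def bit (n i : ℕ) : ZMod 2 := if Nat.testBit n i then 1 else 0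

/-- The vectors outside the axis. -/
def vec (i : Fin 16) : Fin 5 → ZMod 2 := fun c =>
  match c.val with
  | 0 => bit i 0
  | 1 => 1
  | k + 2 => bit i (k + 1)

theorem vec_inj : Function.Injective vec := by decide +kernel

theorem vec_one (i : Fin 16) : vec i 1 = 1 := rfl

theorem vec_surj : ∀ v : Fin 5 → ZMod 2, v 1 = 1 → ∃ i, vec i = v := by decide +kernel

/-- A matrix fixing the sixteen vectors is the identity. -/
theorem eq_one_of_fix (g : SL5) (h : ∀ i, (g : Matrix (Fin 5) (Fin 5) (ZMod 2)) *ᵥ vec i = vec i) :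
    g = 1 := by
  apply Subtype.ext
  show (g : Matrix (Fin 5) (Fin 5) (ZMod 2)) = 1
  refine Matrix.ext_of_mulVec_single fun j => ?_
  rw [Matrix.one_mulVec]
  have hd : ∀ j : Fin 5, ∃ i k : Fin 16,
      (Pi.single j 1 : Fin 5 → ZMod 2) = vec i - vec k ∨ (Pi.single j 1 : Fin 5 → ZMod 2) = vec i := by
    decide +kernel
  obtain ⟨i, k, e | e⟩ := hd j <;> rw [e]
  · rw [Matrix.mulVec_sub, h, h]
  · rw [h]

variable (s : SL5)

/-- The centraliser of the transvection. -/
abbrev Cs : Subgroup SL5 := Subgroup.centralizer ({s} : Set SL5)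

variable {s} (hs : (s : Matrix (Fin 5) (Fin 5) (ZMod 2)) = Matrix.transvection 0 1 1)

include hs

theorem shape (g : SL5) (hg : g ∈ Cs s) : (∀ i, i ≠ 0 → g i 0 = 0) ∧
    (∀ j, j ≠ 1 → g 1 j = 0) ∧ g 0 0 = g 1 1 := by
  have h : (g : Matrix (Fin 5) (Fin 5) (ZMod 2)) * s = s * g :=
    by
      have h' := Subgroup.mem_centralizer_singleton_iff.1 hg
      rw [← Matrix.SpecialLinearGroup.coe_mul, ← Matrix.SpecialLinearGroup.coe_mul, h']
  rw [hs] at h
  refine ⟨fun i hi => ?_, fun j hj => ?_, ?_⟩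
  · have := congrFun (congrFun h i) 1
    rw [Matrix.mul_transvection_apply_same, Matrix.transvection_mul_apply_of_ne _ _ _ _ hi] at this
    simpa using this
  · have := congrFun (congrFun h 0) j
    rw [Matrix.mul_transvection_apply_of_ne _ _ _ _ hj,
      Matrix.transvection_mul_apply_same] at this
    simpa using this
  · have := congrFun (congrFun h 0) 1
    rw [Matrix.mul_transvection_apply_same, Matrix.transvection_mul_apply_same] at this
    simp only [one_mul, add_comm ((g : Matrix (Fin 5) (Fin 5) (ZMod 2)) 0 1)] at this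
    exact add_right_cancel this

theorem diag_one (g : SL5) (hg : g ∈ Cs s) : g 0 0 = 1 ∧ g 1 1 = 1 := by
  obtain ⟨h0, -, he⟩ := shape hs g hg
  have hne : g 0 0 ≠ 0 := by
    intro hz
    have : (g : Matrix (Fin 5) (Fin 5) (ZMod 2)).det = 0 :=
      Matrix.det_eq_zero_of_column_eq_zero 0 fun i => by
        by_cases hi : i = 0
        · subst hi; exact hz
        · exact h0 i hi
    rw [g.2] at this
    exact one_ne_zero this
  have h1 : g 0 0 = 1 := (by decide : ∀ x : ZMod 2, x ≠ 0 → x = 1) _ hne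
  exact ⟨h1, he ▸ h1⟩

theorem stable (g : SL5) (hg : g ∈ Cs s) (v : Fin 5 → ZMod 2) :
    ((g : Matrix (Fin 5) (Fin 5) (ZMod 2)) *ᵥ v) 1 = v 1 := by
  obtain ⟨-, h1, -⟩ := shape hs g hg
  rw [Matrix.mulVec, dotProduct, Finset.sum_eq_single 1]
  · rw [(diag_one hs g hg).2, one_mul]
  · intro j _ hj; rw [h1 j hj, zero_mul]
  · simp

theorem exists_act (g : Cs s) (i : Fin 16) :
    ∃ j, ((g : SL5) : Matrix (Fin 5) (Fin 5) (ZMod 2)) *ᵥ vec i = vec j :=
  let ⟨j, hj⟩ := vec_surj _ ((stable hs g g.2 (vec i)).trans (vec_one i))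
  ⟨j, hj.symm⟩

/-- The index of the image. -/
noncomputable def actFun (g : Cs s) (i : Fin 16) : Fin 16 := (exists_act hs g i).choose

theorem actFun_spec (g : Cs s) (i : Fin 16) :
    ((g : SL5) : Matrix (Fin 5) (Fin 5) (ZMod 2)) *ᵥ vec i = vec (actFun hs g i) :=
  (exists_act hs g i).choose_spec

theorem actFun_mul (g h : Cs s) (i : Fin 16) :
    actFun hs (g * h) i = actFun hs g (actFun hs h i) := by
  apply vec_inj
  rw [← actFun_spec, ← actFun_spec, ← actFun_spec, Matrix.mulVec_mulVec]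
  rfl

theorem actFun_one (i : Fin 16) : actFun hs 1 i = i := by
  apply vec_inj
  rw [← actFun_spec]
  exact Matrix.one_mulVec _

/-- The action on the sixteen vectors. -/
noncomputable def act : Cs s →* Equiv.Perm (Fin 16) where
  toFun g :=
    { toFun := actFun hs g
      invFun := actFun hs g⁻¹
      left_inv := fun i => by rw [← actFun_mul, inv_mul_cancel, actFun_one]
      right_inv := fun i => by rw [← actFun_mul, mul_inv_cancel, actFun_one] }
  map_one' := Equiv.ext (actFun_one hs)
  map_mul' g h := Equiv.ext (actFun_mul hs g h)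

theorem act_apply (g : Cs s) (i : Fin 16) :
    ((g : SL5) : Matrix (Fin 5) (Fin 5) (ZMod 2)) *ᵥ vec i = vec (act hs g i) := actFun_spec hs g i

omit hs in
theorem card_units3 : Nat.card {M : Matrix (Fin 3) (Fin 3) (ZMod 2) // IsUnit M} ≤ 168 := by
  let e : GL (Fin 3) (ZMod 2) ≃ {M : Matrix (Fin 3) (Fin 3) (ZMod 2) // IsUnit M} :=
    { toFun := fun u => ⟨u.val, u.isUnit⟩
      invFun := fun M => M.2.unit
      left_inv := fun u => Units.ext rfl
      right_inv := fun M => Subtype.ext rfl }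
  refine le_of_eq ?_
  rw [← Nat.card_congr e, Matrix.card_GL_field, ZMod.card]
  decide +kernel

theorem card_Cs_le : Nat.card (Cs s) ≤ 21504 := by
  classical
  let blk : Cs s → Matrix (Fin 3) (Fin 3) (ZMod 2) := fun g =>
    Matrix.of fun i j => (g : SL5) i.succ.succ j.succ.succ
  have hunit : ∀ g : Cs s, IsUnit (blk g) := by
    intro g
    rw [← Matrix.mulVec_injective_iff_isUnit]
    intro u v huv
    obtain ⟨h0, h1, -⟩ := shape hs g.1 g.2
    obtain ⟨g00, -⟩ := diag_one hs g.1 g.2
    set w : Fin 5 → ZMod 2 := Fin.cons 0 (Fin.cons 0 (u - v)) with hw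
    set c : ZMod 2 := (((g : SL5) : Matrix (Fin 5) (Fin 5) (ZMod 2)) *ᵥ w) 0 with hc
    have hker : ((g : SL5) : Matrix (Fin 5) (Fin 5) (ZMod 2)) *ᵥ (w - Pi.single 0 c) = 0 := by
      have hsng : ∀ i, (((g : SL5) : Matrix (Fin 5) (Fin 5) (ZMod 2)) *ᵥ Pi.single 0 c) i =
          (g : SL5) i 0 * c := fun i => by
        rw [Matrix.mulVec, dotProduct_single]
      rw [Matrix.mulVec_sub]
      funext i
      refine Fin.cases ?_ (fun i => Fin.cases ?_ (fun i => ?_) i) i
      · rw [Pi.sub_apply, hsng, g00, one_mul, Pi.zero_apply, ← hc, sub_self]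
      · rw [Pi.sub_apply, hsng, show (Fin.succ 0 : Fin 5) = 1 from rfl, stable hs g.1 g.2,
          h0 1 (by decide), zero_mul, Pi.zero_apply, sub_zero]
        rfl
      · rw [Pi.sub_apply, hsng, h0 _ (Fin.succ_ne_zero _), zero_mul, sub_zero, Pi.zero_apply]
        have e : (((g : SL5) : Matrix (Fin 5) (Fin 5) (ZMod 2)) *ᵥ w) i.succ.succ =
            (blk g *ᵥ (u - v)) i := by
          simp [Matrix.mulVec, dotProduct, Fin.sum_univ_succ, hw, blk]
        rw [e, Matrix.mulVec_sub, huv, sub_self, Pi.zero_apply]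
    have h2 : w - Pi.single 0 c = 0 := by
      have h := congrArg (fun x => (((g : SL5)⁻¹ : SL5) : Matrix (Fin 5) (Fin 5) (ZMod 2)) *ᵥ x) hker
      simp only [Matrix.mulVec_zero, Matrix.mulVec_mulVec] at h
      rw [← Matrix.SpecialLinearGroup.coe_mul, inv_mul_cancel, Matrix.SpecialLinearGroup.coe_one,
        Matrix.one_mulVec] at h
      exact h
    funext k
    have := congrFun h2 k.succ.succ
    simpa [hw, sub_eq_zero] using this
  let f : Cs s → {M : Matrix (Fin 3) (Fin 3) (ZMod 2) // IsUnit M} × (Fin 3 → ZMod 2) ×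
      (Fin 4 → ZMod 2) := fun g =>
    (⟨blk g, hunit g⟩, fun i => (g : SL5) i.succ.succ 1, fun j => (g : SL5) 0 j.succ)
  have hf : Function.Injective f := by
    intro g g' e
    simp only [f, Prod.mk.injEq, Subtype.mk.injEq] at e
    obtain ⟨e1, e2, e3⟩ := e
    obtain ⟨a0, a1, -⟩ := shape hs g.1 g.2
    obtain ⟨b0, b1, -⟩ := shape hs g'.1 g'.2
    obtain ⟨p0, p1⟩ := diag_one hs g.1 g.2
    obtain ⟨q0, q1⟩ := diag_one hs g'.1 g'.2
    refine Subtype.ext (Subtype.ext (Matrix.ext fun i j => ?_))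
    refine Fin.cases ?_ (fun i => Fin.cases ?_ (fun i => ?_) i) i
    · refine Fin.cases ?_ (fun j => congrFun e3 j) j
      exact p0.trans q0.symm
    · by_cases hj : j = 1
      · subst hj; exact p1.trans q1.symm
      · exact (a1 j hj).trans (b1 j hj).symm
    · refine Fin.cases ?_ (fun j => Fin.cases ?_ (fun j => congrFun (congrFun e1 i) j) j) j
      · exact (a0 _ (Fin.succ_ne_zero _)).trans (b0 _ (Fin.succ_ne_zero _)).symm
      · exact congrFun e2 i
  refine (Nat.card_le_card_of_injective f hf).trans ?_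
  rw [Nat.card_prod, Nat.card_prod, Nat.card_fun, Nat.card_fun, Nat.card_zmod, Nat.card_fin,
    Nat.card_fin]
  exact (Nat.mul_le_mul_right _ card_units3).trans (by norm_num)

end CfsgLib.Sporadic.HeCent
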