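import Cfsg.Agent.Lib.Sporadic.HeCent.Bound
import Cfsg.Agent.Lib.Sporadic.HeCent.Target
import Cfsg.Agent.Lib.Sporadic.OutCert.Slp

/-!
# The centraliser of an involution of the Held group is that of a transvection of `SL(5, 2)`
-/

set_option autoImplicit false
set_option maxRecDepth 10000

open Cfsg.Spor Matrix

namespace CfsgLib.Sporadic.HeCent

open CosetCert CosetCert.HeP OutCert
open CosetCert.HeData (table)

/-- The matrix with given columns. -/
def colMat (k : Fin 3) : Matrix (Fin 5) (Fin 5) (ZMod 2) :=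
  Matrix.of fun i j => bit ((matCols.getD k []).getD j 0) i

theorem colMat_det : ∀ k, (colMat k).det = 1 := by decide +kernel

/-- The matrices. -/
def mgen (k : Fin 3) : SL5 := ⟨colMat k, colMat_det k⟩

theorem colMat_comm : ∀ k, colMat k * Matrix.transvection 0 1 1 = Matrix.transvection 0 1 1 * colMat k := by
  decide +kernel

/-- A permutation of the sixteen vectors. -/
def pgen (k : Fin 3) : Equiv.Perm (Fin 16) :=
  permOf (permTab.getD k (0, 0)).1 (permTab.getD k (0, 0)).2 (by
    rw [List.getD_eq_getElem _ _ (by rw [perm_valid.2.1]; exact k.2)]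
    exact List.all_eq_true.1 perm_valid.1 _ (List.getElem_mem _))

theorem rep_pgen (k : Fin 3) : Rep 4 16 (permTab.getD k (0, 0)).1 (pgen k) := rep_permOf _

theorem colMat_vec : ∀ (k : Fin 3) (i : Fin 16), colMat k *ᵥ vec i = vec (pgen k i) := by
  decide +kernel

theorem genRow_lt (k : Fin 3) : genRow.getD k 0 < table.nl + table.slp.length := by
  revert k
  decide +kernel

/-- The elements of the Held group. -/
noncomputable def cgen (k : Fin 3) : He := table.el coding.gen (genRow.getD k 0)

theorem img_lt (r : ℕ) (hr : r < table.nl + table.slp.length) (u : Fin table.N) : table.img r u < table.N := by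
  rw [← img_el hr u]
  exact Fin.isLt _

theorem cgen_mem (k : Fin 3) : cgen k ∈ Cz := by
  rw [Subgroup.mem_centralizer_singleton_iff]
  apply inj
  refine Equiv.ext fun u => Fin.ext ?_
  rw [map_mul, map_mul, Equiv.Perm.mul_apply, Equiv.Perm.mul_apply]
  show ((hom (table.el coding.gen (genRow.getD k 0)) (hom zE u) : Fin table.N) : ℕ) =
    ((hom zE (hom (table.el coding.gen (genRow.getD k 0)) u) : Fin table.N) : ℕ)
  rw [img_el (genRow_lt k), zE_img, zE_img, img_el (genRow_lt k)]
  have hk : (k : ℕ) < genRow.length := k.2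
  have hmem : genRow.getD k 0 ∈ genRow := by
    rw [List.getD_eq_getElem _ _ hk]; exact List.getElem_mem _
  have h := allF_iff.1 (List.all_eq_true.1 comm_ok _ hmem) u (N_eq ▸ u.2)
  exact Nat.eq_of_beq_eq_true h

/-- The graph of one of the partial maps. -/
def Gr (i : Fin 16) (x y : Fin table.N) : Prop := lk 12 (maps.getD i 0) x = (y : ℕ)

theorem map_ok (k : Fin 3) : allF (mapK k) 16 = true := by
  match k with
  | 0 => exact map_ok0
  | 1 => exact map_ok1
  | 2 => exact map_ok2

/-- A pair moves the vectors as it moves the partial maps. -/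
def Good (p : He × SL5) : Prop :=
  ∀ i, ∃ j, (p.2 : Matrix (Fin 5) (Fin 5) (ZMod 2)) *ᵥ vec i = vec j ∧
    ∀ x y, Gr i x y → Gr j (hom p.1 x) (hom p.1 y)

theorem good_gen (k : Fin 3) : Good (cgen k, mgen k) := by
  intro i
  refine ⟨pgen k i, colMat_vec k i, fun x y hxy => ?_⟩
  have h0 := allF_iff.1 (map_ok k) i i.2
  simp only [mapK] at h0
  have h := allF_iff.1 h0 x (Nat.lt_of_lt_of_eq x.2 N_eq)
  simp only [Bool.or_eq_true, Bool.and_eq_true, Nat.beq_eq, Nat.blt_eq] at h
  unfold Gr at hxy ⊢
  rw [hxy] at h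
  have hy : (y : ℕ) < 2058 := N_eq ▸ y.2
  rcases h with h | ⟨-, h⟩
  · omega
  rw [rep_pgen k i] at h
  show lk 12 _ ((hom (table.el coding.gen (genRow.getD k 0)) x : Fin table.N) : ℕ) = _
  rw [img_el (genRow_lt k), h]
  exact (img_el (genRow_lt k) y).symm

theorem good_one : Good 1 := fun i => ⟨i, Matrix.one_mulVec _, fun x y h => by
  rw [Prod.fst_one, map_one]; exact h⟩

theorem good_mul {p q : He × SL5} (hp : Good p) (hq : Good q) : Good (p * q) := by
  intro i
  obtain ⟨j, hj, hj'⟩ := hq i
  obtain ⟨l, hl, hl'⟩ := hp j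
  refine ⟨l, ?_, fun x y h => ?_⟩
  · rw [← hl, ← hj, Matrix.mulVec_mulVec]; rfl
  · rw [Prod.fst_mul, map_mul]
    exact hl' _ _ (hj' x y h)

theorem snd_eq_one {m : SL5} (h : Good (1, m)) : m = 1 := by
  refine eq_one_of_fix m fun i => ?_
  obtain ⟨j, hj, hj'⟩ := h i
  by_cases he : j = i
  · rw [hj, he]
  exfalso
  have hw := allF_iff.1 (allF_iff.1 wit_ok i i.2) j j.2
  simp only [Bool.or_eq_true, Bool.and_eq_true, Nat.beq_eq, Nat.blt_eq, Bool.not_eq_true'] at hw
  rcases hw with hw | ⟨hx, hy, hne⟩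
  · exact he (Fin.ext hw.symm)
  have h2 := hj' (point _ hx) (point _ hy) rfl
  simp only [map_one, Equiv.Perm.one_apply] at h2
  have h3 : Nat.beq (lk 12 (maps.getD j 0) (wit.getD (Nat.add (Nat.mul 16 i) j) 0))
      (lk 12 (maps.getD i 0) (wit.getD (Nat.add (Nat.mul 16 i) j) 0)) = true := (by rw [Nat.beq_eq]; exact h2)
  rw [h3] at hne
  exact Bool.noConfusion hne

/-- The graph of the isomorphism. -/
noncomputable def D : Subgroup (He × SL5) := Subgroup.closure (Set.range fun k => (cgen k, mgen k))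

theorem good_D {p : He × SL5} (hp : p ∈ D) : Good p := by
  haveI := CosetCert.HeP.finite
  rw [D, ← Subgroup.mem_toSubmonoid, Subgroup.closure_toSubmonoid_of_finite] at hp
  induction hp using Submonoid.closure_induction with
  | mem p hp => obtain ⟨k, rfl⟩ := hp; exact good_gen k
  | one => exact good_one
  | mul p q _ _ hp hq => exact good_mul hp hq

theorem orderOf_zE : orderOf zE = 2 := by
  have hne : zE ≠ 1 := by
    intro h
    have := congrArg (fun g => ((hom g (point 18 (by norm_num)) : Fin table.N) : ℕ)) h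
    simp only [zE_img, map_one, Equiv.Perm.one_apply] at this
    exact absurd (nontrivial.symm.trans this) (by show (34 : ℕ) ≠ 18; norm_num)
  refine orderOf_eq_prime ?_ hne
  apply inj
  refine Equiv.ext fun u => Fin.ext ?_
  rw [map_pow, map_one, pow_two, Equiv.Perm.mul_apply, zE_img, zE_img]
  have h : ∀ v < 2058, table.img 3 (table.img 3 v) = v := by
    have h2 : OutCert.allF (fun v => Nat.beq (table.img 3 (table.img 3 v)) v) 2058 = true := by
      decide +kernel
    exact fun v hv => Nat.eq_of_beq_eq_true (allF_iff.1 h2 v hv)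
  exact h u (N_eq ▸ u.2)

theorem iso (s : SL5) (hs : (s : Matrix (Fin 5) (Fin 5) (ZMod 2)) = Matrix.transvection 0 1 1) :
    Nonempty (Cz ≃* Cs s) := by
  classical
  haveI := CosetCert.HeP.finite
  have hD : ∀ p ∈ D, p.1 ∈ Cz ∧ p.2 ∈ Cs s := by
    have hle : D ≤ Cz.prod (Cs s) := by
      rw [D, Subgroup.closure_le]
      rintro _ ⟨k, rfl⟩
      refine ⟨cgen_mem k, Subgroup.mem_centralizer_singleton_iff.2 (Subtype.ext ?_)⟩
      show colMat k * (s : Matrix (Fin 5) (Fin 5) (ZMod 2)) = s * colMat k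
      rw [hs]
      exact colMat_comm k
    exact fun p hp => Subgroup.mem_prod.1 (hle hp)
  let f1 : D →* Cz :=
    { toFun := fun p => ⟨p.1.1, (hD p p.2).1⟩, map_one' := rfl, map_mul' := fun _ _ => rfl }
  let f2 : D →* Cs s :=
    { toFun := fun p => ⟨p.1.2, (hD p p.2).2⟩, map_one' := rfl, map_mul' := fun _ _ => rfl }
  have hf1 : Function.Injective f1 := by
    rw [← MonoidHom.ker_eq_bot_iff, Subgroup.eq_bot_iff_forall]
    rintro ⟨⟨c, m⟩, hp⟩ h
    have hc : c = 1 := congrArg Subtype.val (MonoidHom.mem_ker.1 h)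
    subst hc
    have hm := snd_eq_one (good_D hp)
    subst hm
    rfl
  have hlo : 21504 ≤ Nat.card f2.range := by
    refine le_trans ?_ (Nat.card_le_card_of_surjective _
      ((act hs).subgroupMap_surjective f2.range))
    rw [← perm_levels.2]
    refine card_ge_levels permLv _ perm_levels.1 fun L hL g hg => ?_
    have hlen : (permTab.map Prod.fst).length = 3 := by rw [List.length_map, perm_valid.2.1]
    have hsl := slp_sound (S := f2.range.map (act hs)) (by norm_num) perm_valid.2.2.1 fun i hi => by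
      rw [hlen] at hi
      refine ⟨pgen ⟨i, hi⟩, ⟨f2 ⟨_, Subgroup.subset_closure ⟨⟨i, hi⟩, rfl⟩⟩, ⟨_, rfl⟩, ?_⟩, ?_⟩
      · refine Equiv.ext fun x => vec_inj ?_
        rw [← act_apply hs]
        exact colMat_vec ⟨i, hi⟩ x
      · rw [List.getD_eq_getElem _ _ (by rw [hlen]; exact hi), List.getElem_map,
          ← List.getD_eq_getElem _ (0, 0) (by rw [perm_valid.2.1]; exact hi)]
        exact rep_pgen ⟨i, hi⟩
    obtain ⟨L', hL', rfl⟩ := List.mem_map.1 hL
    obtain ⟨k, hk, rfl⟩ := List.mem_map.1 hg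
    refine hsl k ?_
    rw [hlen]
    simpa [Nat.blt_eq] using List.all_eq_true.1 (List.all_eq_true.1 perm_valid.2.2.2 L' hL') k hk
  have hD1 : Nat.card D ≤ Nat.card Cz := Nat.card_le_card_of_injective f1 hf1
  have hD2 : Nat.card f2.range ≤ Nat.card D :=
    Nat.card_le_card_of_surjective _ f2.rangeRestrict_surjective
  have hC := card_Cz_le
  have hs2 := card_Cs_le hs
  have hsur : Function.Surjective f2 := by
    rw [← MonoidHom.range_eq_top]
    exact Subgroup.eq_top_of_le_card _ (hs2.trans hlo)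
  have hle2 : Nat.card (Cs s) ≤ Nat.card D := Nat.card_le_card_of_surjective _ hsur
  have hge : Nat.card f2.range ≤ Nat.card (Cs s) :=
    Nat.card_le_card_of_injective _ Subtype.coe_injective
  have b1 : Function.Bijective f1 :=
    (Nat.bijective_iff_injective_and_card f1).2 ⟨hf1, by omega⟩
  have b2 : Function.Bijective f2 :=
    (Nat.bijective_iff_surjective_and_card f2).2 ⟨hsur, by omega⟩
  exact ⟨(MulEquiv.ofBijective f1 b1).symm.trans (MulEquiv.ofBijective f2 b2)⟩

end CfsgLib.Sporadic.HeCent
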